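import Mathlib

/-!
Conjugacy of `2 × 2` matrices: non-scalar matrices are classified by trace and determinant, and
their centralisers consist of the matrices `a + b g`.
-/

set_option autoImplicit false

namespace CfsgLib.GLTwo

open Matrix

variable {F : Type*} [Field F]

/-- A `2 × 2` matrix is scalar. -/
def IsScalar2 (M : Matrix (Fin 2) (Fin 2) F) : Prop := M 0 1 = 0 ∧ M 1 0 = 0 ∧ M 0 0 = M 1 1

theorem isScalar2_iff (M : Matrix (Fin 2) (Fin 2) F) :
    IsScalar2 M ↔ M = M 0 0 • (1 : Matrix (Fin 2) (Fin 2) F) := by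
  constructor
  · rintro ⟨h1, h2, h3⟩
    ext i j
    fin_cases i <;> fin_cases j <;> simp [h1, h2, h3]
  · intro h
    refine ⟨?_, ?_, ?_⟩ <;> rw [h] <;> simp

theorem isScalar2_smul_one (a : F) : IsScalar2 (a • (1 : Matrix (Fin 2) (Fin 2) F)) := by
  simp [IsScalar2]

/-- The companion matrix of `X² - t X + d`. -/
def companion (t d : F) : Matrix (Fin 2) (Fin 2) F := !![0, -d; 1, t]

theorem trace_companion (t d : F) : (companion t d).trace = t := by
  simp [companion, Matrix.trace_fin_two]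

theorem det_companion (t d : F) : (companion t d).det = d := by
  simp [companion, Matrix.det_fin_two]

theorem companion_not_scalar (t d : F) : ¬ IsScalar2 (companion t d) := by
  simp [IsScalar2, companion]

/-- Cayley–Hamilton for `2 × 2` matrices. -/
theorem sq_eq (M : Matrix (Fin 2) (Fin 2) F) :
    M * M = M.trace • M - M.det • (1 : Matrix (Fin 2) (Fin 2) F) := by
  ext i j
  fin_cases i <;> fin_cases j <;>
    simp [Matrix.mul_apply, Fin.sum_univ_two, Matrix.trace_fin_two, Matrix.det_fin_two] <;> ring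

/-- A non-scalar matrix has a cyclic vector. -/
theorem exists_cyclic {M : Matrix (Fin 2) (Fin 2) F} (hM : ¬ IsScalar2 M) :
    ∃ X : Matrix (Fin 2) (Fin 2) F, X.det ≠ 0 ∧ M * X = X * companion M.trace M.det := by
  obtain ⟨a, b, hab⟩ : ∃ a b : F,
      a * (M 1 0 * a + M 1 1 * b) - (M 0 0 * a + M 0 1 * b) * b ≠ 0 := by
    by_contra! h
    have h10 := h 1 0
    have h01 := h 0 1
    have h11 := h 1 1
    simp at h10 h01
    refine hM ⟨h01, h10, ?_⟩
    rw [h10, h01] at h11
    linear_combination -h11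
  refine ⟨!![a, M 0 0 * a + M 0 1 * b; b, M 1 0 * a + M 1 1 * b], ?_, ?_⟩
  · rw [Matrix.det_fin_two_of]; exact hab
  · ext i j
    fin_cases i <;> fin_cases j <;>
      simp [companion, Matrix.mul_apply, Fin.sum_univ_two, Matrix.trace_fin_two, Matrix.det_fin_two] <;>
      ring

theorem det_eq_of_conj {g h X : Matrix (Fin 2) (Fin 2) F} (hX : X.det ≠ 0) (he : X * g = h * X) :
    g.det = h.det := by
  have h1 := congrArg Matrix.det he
  rw [Matrix.det_mul, Matrix.det_mul, mul_comm h.det] at h1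
  exact mul_left_cancel₀ hX h1

theorem trace_eq_of_conj {g h X : Matrix (Fin 2) (Fin 2) F} (hX : X.det ≠ 0) (he : X * g = h * X) :
    g.trace = h.trace := by
  have hu : IsUnit X.det := hX.isUnit
  have h1 : g = X⁻¹ * (h * X) := by rw [← he, Matrix.nonsing_inv_mul_cancel_left _ _ hu]
  rw [h1, Matrix.trace_mul_comm, Matrix.mul_nonsing_inv_cancel_right _ _ hu]

/-- Non-scalar matrices with equal trace and determinant are similar. -/
theorem similar_of_trace_det {g h : Matrix (Fin 2) (Fin 2) F} (hg : ¬ IsScalar2 g)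
    (hh : ¬ IsScalar2 h) (ht : g.trace = h.trace) (hd : g.det = h.det) :
    ∃ X : Matrix (Fin 2) (Fin 2) F, X.det ≠ 0 ∧ X * g = h * X := by
  obtain ⟨A, hA, hAe⟩ := exists_cyclic hg
  obtain ⟨B, hB, hBe⟩ := exists_cyclic hh
  rw [← ht, ← hd] at hBe
  have hu : IsUnit A.det := hA.isUnit
  refine ⟨B * A⁻¹, ?_, ?_⟩
  · rw [Matrix.det_mul, Matrix.det_nonsing_inv, Ring.inverse_eq_inv']
    exact mul_ne_zero hB (inv_ne_zero hA)
  · have h1 : A⁻¹ * g = companion g.trace g.det * A⁻¹ := by
      calc A⁻¹ * g = A⁻¹ * (g * A) * A⁻¹ := by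
            rw [mul_assoc, mul_assoc g, Matrix.mul_nonsing_inv _ hu, mul_one]
        _ = A⁻¹ * (A * companion g.trace g.det) * A⁻¹ := by rw [hAe]
        _ = companion g.trace g.det * A⁻¹ := by
            rw [← mul_assoc A⁻¹ A, Matrix.nonsing_inv_mul _ hu, one_mul]
    rw [mul_assoc, h1, ← mul_assoc, ← hBe, mul_assoc]

/-- Matrices commuting with a non-scalar matrix are polynomials in it. -/
theorem eq_add_smul_of_comm {g X : Matrix (Fin 2) (Fin 2) F} (hg : ¬ IsScalar2 g)
    (h : X * g = g * X) : ∃ a b : F, X = a • (1 : Matrix (Fin 2) (Fin 2) F) + b • g := by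
  have e00 := congrFun (congrFun h 0) 0
  have e01 := congrFun (congrFun h 0) 1
  have e10 := congrFun (congrFun h 1) 0
  simp [Matrix.mul_apply, Fin.sum_univ_two] at e00 e01 e10
  by_cases h01 : g 0 1 = 0
  · by_cases h10 : g 1 0 = 0
    · have hne : g 0 0 ≠ g 1 1 := fun e => hg ⟨h01, h10, e⟩
      have hd : g 0 0 - g 1 1 ≠ 0 := sub_ne_zero.2 hne
      have x01 : X 0 1 = 0 := by
        rw [h01] at e01; exact (mul_left_inj' hd).1 (by linear_combination -e01)
      have x10 : X 1 0 = 0 := by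
        rw [h10] at e10; exact (mul_left_inj' hd).1 (by linear_combination e10)
      set b := (X 0 0 - X 1 1) / (g 0 0 - g 1 1) with hb
      refine ⟨X 0 0 - b * g 0 0, b, ?_⟩
      ext i j
      fin_cases i <;> fin_cases j <;> simp [x01, x10, h01, h10]
      rw [hb]; field_simp; ring
    · set b := X 1 0 / g 1 0 with hb
      refine ⟨X 0 0 - b * g 0 0, b, ?_⟩
      ext i j
      fin_cases i <;> fin_cases j <;> simp
      · rw [h01, mul_zero]
        have : X 0 1 * g 1 0 = 0 := by linear_combination e00 + X 1 0 * h01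
        exact (mul_eq_zero.1 this).resolve_right h10
      · rw [hb]; field_simp
      · rw [hb]; field_simp
        linear_combination e10
  · set b := X 0 1 / g 0 1 with hb
    refine ⟨X 0 0 - b * g 0 0, b, ?_⟩
    ext i j
    fin_cases i <;> fin_cases j <;> simp
    · rw [hb]; field_simp
    · rw [hb]; field_simp
      linear_combination -e00
    · rw [hb]; field_simp
      linear_combination -e01

theorem det_add_smul (g : Matrix (Fin 2) (Fin 2) F) (a b : F) :
    (a • (1 : Matrix (Fin 2) (Fin 2) F) + b • g).det = a ^ 2 + a * b * g.trace + b ^ 2 * g.det := by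
  simp [Matrix.det_fin_two, Matrix.trace_fin_two]; ring

theorem add_smul_injective {g : Matrix (Fin 2) (Fin 2) F} (hg : ¬ IsScalar2 g) {a b a' b' : F}
    (h : a • (1 : Matrix (Fin 2) (Fin 2) F) + b • g = a' • (1 : Matrix (Fin 2) (Fin 2) F) + b' • g) :
    a = a' ∧ b = b' := by
  have hb : b = b' := by
    by_contra hne
    apply hg
    rw [isScalar2_iff]
    have : (b - b') • g = (a' - a) • (1 : Matrix (Fin 2) (Fin 2) F) := by
      rw [sub_smul, sub_smul]
      linear_combination (norm := module) h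
    have hg' : g = ((b - b')⁻¹ * (a' - a)) • (1 : Matrix (Fin 2) (Fin 2) F) := by
      rw [← smul_smul, ← this, smul_smul, inv_mul_cancel₀ (sub_ne_zero.2 hne), one_smul]
    conv_lhs => rw [hg']
    rw [hg']; simp
  subst hb
  refine ⟨?_, rfl⟩
  have := congrFun (congrFun h 0) 0
  simpa using this

/-- A matrix `a + b g` of non-zero determinant, as an invertible matrix commuting with `g`. -/
theorem add_smul_comm (g : Matrix (Fin 2) (Fin 2) F) (a b : F) :
    (a • (1 : Matrix (Fin 2) (Fin 2) F) + b • g) * g = g * (a • 1 + b • g) := by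
  simp [add_mul, mul_add]

/-- Conjugacy in `GL₂` of non-scalar elements. -/
theorem gl_isConj_of_trace_det {g h : GL (Fin 2) F}
    (hg : ¬ IsScalar2 (g : Matrix (Fin 2) (Fin 2) F)) (hh : ¬ IsScalar2 (h : Matrix (Fin 2) (Fin 2) F))
    (ht : (g : Matrix (Fin 2) (Fin 2) F).trace = (h : Matrix (Fin 2) (Fin 2) F).trace)
    (hd : (g : Matrix (Fin 2) (Fin 2) F).det = (h : Matrix (Fin 2) (Fin 2) F).det) : IsConj g h := by
  obtain ⟨X, hX, he⟩ := similar_of_trace_det hg hh ht hd
  rw [isConj_iff]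
  refine ⟨Matrix.GeneralLinearGroup.mkOfDetNeZero X hX, ?_⟩
  rw [mul_inv_eq_iff_eq_mul]
  exact Units.ext he

/-- An element of `SL₂` from its matrix. -/
def mkSL (M : Matrix (Fin 2) (Fin 2) F) (h : M.det = 1) : Matrix.SpecialLinearGroup (Fin 2) F := ⟨M, h⟩

theorem coe_mkSL (M : Matrix (Fin 2) (Fin 2) F) (h : M.det = 1) :
    (mkSL M h : Matrix (Fin 2) (Fin 2) F) = M := rfl

/-- The set of determinants of the centraliser of `g`. -/
def IsNorm (g : Matrix (Fin 2) (Fin 2) F) (r : F) : Prop :=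
  ∃ a b : F, a ^ 2 + a * b * g.trace + b ^ 2 * g.det = r

/-- Conjugacy in `SL₂` in terms of a conjugating element of `GL₂`. -/
theorem sl_isConj_iff_norm {g h : Matrix.SpecialLinearGroup (Fin 2) F}
    (hg : ¬ IsScalar2 (g : Matrix (Fin 2) (Fin 2) F)) {X : Matrix (Fin 2) (Fin 2) F} (hX : X.det ≠ 0)
    (he : X * (g : Matrix (Fin 2) (Fin 2) F) = (h : Matrix (Fin 2) (Fin 2) F) * X) :
    IsConj g h ↔ IsNorm (g : Matrix (Fin 2) (Fin 2) F) (X.det)⁻¹ := by
  have hu : IsUnit X.det := hX.isUnit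
  constructor
  · rw [isConj_iff]
    rintro ⟨c, hc⟩
    rw [mul_inv_eq_iff_eq_mul] at hc
    have hc' : (c : Matrix (Fin 2) (Fin 2) F) * (g : Matrix (Fin 2) (Fin 2) F) =
        (h : Matrix (Fin 2) (Fin 2) F) * c := congrArg Subtype.val hc
    have hcomm : X⁻¹ * (c : Matrix (Fin 2) (Fin 2) F) * (g : Matrix (Fin 2) (Fin 2) F) =
        (g : Matrix (Fin 2) (Fin 2) F) * (X⁻¹ * c) := by
      have h2 : X⁻¹ * (h : Matrix (Fin 2) (Fin 2) F) = (g : Matrix (Fin 2) (Fin 2) F) * X⁻¹ := by
        calc _ = X⁻¹ * ((h : Matrix (Fin 2) (Fin 2) F) * X) * X⁻¹ := by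
              rw [mul_assoc, mul_assoc (h : Matrix (Fin 2) (Fin 2) F), Matrix.mul_nonsing_inv _ hu,
                mul_one]
          _ = _ := by rw [← he, ← mul_assoc X⁻¹ X, Matrix.nonsing_inv_mul _ hu, one_mul]
      rw [mul_assoc, hc', ← mul_assoc, h2, mul_assoc]
    obtain ⟨a, b, hab⟩ := eq_add_smul_of_comm hg hcomm
    refine ⟨a, b, ?_⟩
    rw [← det_add_smul, ← hab, Matrix.det_mul, Matrix.det_nonsing_inv, c.2, mul_one,
      Ring.inverse_eq_inv']
  · rintro ⟨a, b, hab⟩
    rw [← det_add_smul] at hab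
    rw [isConj_iff]
    refine ⟨mkSL (X * (a • (1 : Matrix (Fin 2) (Fin 2) F) + b • (g : Matrix (Fin 2) (Fin 2) F))) (by
      rw [Matrix.det_mul, hab, mul_inv_cancel₀ hX]), ?_⟩
    rw [mul_inv_eq_iff_eq_mul]
    apply Subtype.ext
    simp only [Matrix.SpecialLinearGroup.coe_mul, coe_mkSL]
    rw [mul_assoc, add_smul_comm, ← mul_assoc, he, mul_assoc]

/-- If all non-zero scalars are centraliser determinants, trace decides conjugacy. -/
theorem sl_isConj_of_norm_surj {g h : Matrix.SpecialLinearGroup (Fin 2) F}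
    (hg : ¬ IsScalar2 (g : Matrix (Fin 2) (Fin 2) F)) (hh : ¬ IsScalar2 (h : Matrix (Fin 2) (Fin 2) F))
    (ht : (g : Matrix (Fin 2) (Fin 2) F).trace = (h : Matrix (Fin 2) (Fin 2) F).trace)
    (hsur : ∀ r : F, IsNorm (g : Matrix (Fin 2) (Fin 2) F) r) : IsConj g h := by
  obtain ⟨X, hX, he⟩ := similar_of_trace_det hg hh ht (g.2.trans h.2.symm)
  exact (sl_isConj_iff_norm hg hX he).2 (hsur _)

/-- The centraliser of a non-scalar element of `SL₂` has the size of the norm-one set. -/
theorem sl_card_centralizer {g : Matrix.SpecialLinearGroup (Fin 2) F}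
    (hg : ¬ IsScalar2 (g : Matrix (Fin 2) (Fin 2) F)) :
    Nat.card (Subgroup.centralizer ({g} : Set (Matrix.SpecialLinearGroup (Fin 2) F))) =
      Nat.card {p : F × F // p.1 ^ 2 + p.1 * p.2 * (g : Matrix (Fin 2) (Fin 2) F).trace + p.2 ^ 2 = 1} := by
  symm
  refine Nat.card_congr (Equiv.ofBijective (fun p =>
    ⟨mkSL (p.1.1 • 1 + p.1.2 • (g : Matrix (Fin 2) (Fin 2) F)) (by
      rw [det_add_smul, g.2, mul_one]; exact p.2), ?_⟩) ⟨?_, ?_⟩)
  · rw [Subgroup.mem_centralizer_singleton_iff]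
    exact Subtype.ext (add_smul_comm _ _ _)
  · intro p q hpq
    have := add_smul_injective hg (congrArg (fun x : Subgroup.centralizer ({g} : Set _) =>
      ((x : Matrix.SpecialLinearGroup (Fin 2) F) : Matrix (Fin 2) (Fin 2) F)) hpq)
    exact Subtype.ext (Prod.ext this.1 this.2)
  · rintro ⟨c, hc⟩
    rw [Subgroup.mem_centralizer_singleton_iff] at hc
    obtain ⟨a, b, hab⟩ := eq_add_smul_of_comm hg (congrArg Subtype.val hc)
    refine ⟨⟨(a, b), ?_⟩, Subtype.ext (Subtype.ext hab.symm)⟩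
    have := det_add_smul (g : Matrix (Fin 2) (Fin 2) F) a b
    rw [← hab, c.2, g.2, mul_one] at this
    exact this.symm

/-- The centraliser of a non-scalar element of `GL₂`. -/
theorem gl_card_centralizer {g : GL (Fin 2) F} (hg : ¬ IsScalar2 (g : Matrix (Fin 2) (Fin 2) F)) :
    Nat.card (Subgroup.centralizer ({g} : Set (GL (Fin 2) F))) =
      Nat.card {p : F × F // p.1 ^ 2 + p.1 * p.2 * (g : Matrix (Fin 2) (Fin 2) F).trace +
        p.2 ^ 2 * (g : Matrix (Fin 2) (Fin 2) F).det ≠ 0} := by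
  symm
  refine Nat.card_congr (Equiv.ofBijective (fun p => ⟨Matrix.GeneralLinearGroup.mkOfDetNeZero
    (p.1.1 • 1 + p.1.2 • (g : Matrix (Fin 2) (Fin 2) F)) (by rw [det_add_smul]; exact p.2), ?_⟩) ⟨?_, ?_⟩)
  · rw [Subgroup.mem_centralizer_singleton_iff]
    exact Units.ext (add_smul_comm _ _ _)
  · intro p q hpq
    have := add_smul_injective hg (congrArg (fun x : Subgroup.centralizer ({g} : Set _) =>
      ((x : GL (Fin 2) F) : Matrix (Fin 2) (Fin 2) F)) hpq)
    exact Subtype.ext (Prod.ext this.1 this.2)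
  · rintro ⟨c, hc⟩
    rw [Subgroup.mem_centralizer_singleton_iff] at hc
    obtain ⟨a, b, hab⟩ := eq_add_smul_of_comm hg (congrArg Units.val hc)
    refine ⟨⟨(a, b), ?_⟩, Subtype.ext (Units.ext hab.symm)⟩
    have := det_add_smul (g : Matrix (Fin 2) (Fin 2) F) a b
    rw [← hab] at this
    rw [← this]
    exact Matrix.GeneralLinearGroup.det_ne_zero c

/-- Orbit-stabiliser for conjugacy classes. -/
theorem card_carrier_mul_card_centralizer {G : Type*} [Group G] (g : G) :
    Nat.card (ConjClasses.mk g).carrier * Nat.card (Subgroup.centralizer ({g} : Set G)) = Nat.card G := by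
  rw [← ConjAct.orbit_eq_carrier_conjClasses, Subgroup.nat_card_centralizer_nat_card_stabilizer,
    ← Nat.card_prod]
  exact (Nat.card_congr (MulAction.orbitProdStabilizerEquivGroup (ConjAct G) g)).trans
    (Nat.card_congr ConjAct.ofConjAct.toEquiv)

end CfsgLib.GLTwo
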