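import Mathlib
import Cfsg.Agent.Lib.GLTwo.Basic
import Cfsg.Agent.Lib.Classical.Order

/-!
Conjugacy classes and unipotent elements of `GL₂` and `SL₂`.
-/

set_option autoImplicit false

namespace CfsgLib.GLTwo

open Matrix

variable {F : Type*} [Field F]

/-- The upper unitriangular element with corner `b`, times a sign `s`. -/
def jordanSL (s b : F) (hs : s * s = 1) : Matrix.SpecialLinearGroup (Fin 2) F :=
  mkSL !![s, s * b; 0, s] (by rw [Matrix.det_fin_two_of]; simp [hs])

theorem jordanSL_not_scalar (s b : F) (hs : s * s = 1) (hb : b ≠ 0) :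
    ¬ IsScalar2 (jordanSL s b hs : Matrix (Fin 2) (Fin 2) F) := by
  rintro ⟨h, -, -⟩
  simp [jordanSL, coe_mkSL] at h
  rcases h with h | h
  · rw [h, mul_zero] at hs; exact zero_ne_one hs
  · exact hb h

theorem trace_jordanSL (s b : F) (hs : s * s = 1) :
    (jordanSL s b hs : Matrix (Fin 2) (Fin 2) F).trace = 2 * s := by
  simp [jordanSL, coe_mkSL, Matrix.trace_fin_two]; ring

/-- Two Jordan elements are conjugate in `SL₂` iff the corners differ by a square. -/
theorem jordan_isConj_iff (s b b' : F) (hs : s * s = 1) (hb : b ≠ 0) (hb' : b' ≠ 0) :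
    IsConj (jordanSL s b hs) (jordanSL s b' hs) ↔ IsSquare (b * b') := by
  have hs0 : s ≠ 0 := fun h => by rw [h, mul_zero] at hs; exact zero_ne_one hs
  rw [isConj_iff]
  constructor
  · rintro ⟨c, hc⟩
    rw [mul_inv_eq_iff_eq_mul] at hc
    have hm : (c : Matrix (Fin 2) (Fin 2) F) * (jordanSL s b hs : Matrix (Fin 2) (Fin 2) F) =
        (jordanSL s b' hs : Matrix (Fin 2) (Fin 2) F) * c := congrArg Subtype.val hc
    have e00 := congrFun (congrFun hm 0) 0
    have e01 := congrFun (congrFun hm 0) 1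
    simp [jordanSL, coe_mkSL, Matrix.mul_apply, Fin.sum_univ_two] at e00 e01
    have h10 : (c : Matrix (Fin 2) (Fin 2) F) 1 0 = 0 := by
      have : (c : Matrix (Fin 2) (Fin 2) F) 1 0 * (s * b') = 0 := by linear_combination -e00
      simpa [hs0, hb'] using this
    have hdet := c.2
    rw [Matrix.det_fin_two, h10, mul_zero, sub_zero] at hdet
    refine ⟨b * (c : Matrix (Fin 2) (Fin 2) F) 0 0, (mul_left_inj' hs0).1 ?_⟩
    have h2 : (c : Matrix (Fin 2) (Fin 2) F) 0 0 * (s * b) =
        (s * b') * (c : Matrix (Fin 2) (Fin 2) F) 1 1 := by linear_combination e01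
    calc b * b' * s = b * ((s * b') * (c : Matrix (Fin 2) (Fin 2) F) 1 1) *
          (c : Matrix (Fin 2) (Fin 2) F) 0 0 := by linear_combination (-(b * b' * s)) * hdet
      _ = b * (c : Matrix (Fin 2) (Fin 2) F) 0 0 * (b * (c : Matrix (Fin 2) (Fin 2) F) 0 0) * s := by
          rw [← h2]; ring
  · rintro ⟨r, hr⟩
    have hr0 : r ≠ 0 := fun h => by simp [h, hb, hb'] at hr
    refine ⟨mkSL !![r / b, 0; 0, b / r] (by rw [Matrix.det_fin_two_of]; field_simp; ring), ?_⟩
    rw [mul_inv_eq_iff_eq_mul]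
    apply Subtype.ext
    simp only [Matrix.SpecialLinearGroup.coe_mul, jordanSL, coe_mkSL]
    ext i j
    fin_cases i <;> fin_cases j <;> simp [Matrix.mul_apply, Fin.sum_univ_two]
    all_goals field_simp
    all_goals first | done | linear_combination (-1 : F) * hr | linear_combination hr | ring

/-- A scalar element of `SL₂` is `± 1`. -/
theorem scalar_sl {g : Matrix.SpecialLinearGroup (Fin 2) F}
    (hg : IsScalar2 (g : Matrix (Fin 2) (Fin 2) F)) :
    (g : Matrix (Fin 2) (Fin 2) F) 0 0 = 1 ∨ (g : Matrix (Fin 2) (Fin 2) F) 0 0 = -1 := by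
  have := g.2
  rw [Matrix.det_fin_two, hg.1, zero_mul, sub_zero, ← hg.2.2, ← sq] at this
  exact sq_eq_one_iff.1 this

theorem isScalar2_of_conj_sl {g h : Matrix.SpecialLinearGroup (Fin 2) F} (hc : IsConj g h)
    (hg : IsScalar2 (g : Matrix (Fin 2) (Fin 2) F)) : g = h := by
  obtain ⟨c, hc⟩ := isConj_iff.1 hc
  rw [← hc, eq_mul_inv_iff_mul_eq]
  apply Subtype.ext
  simp only [Matrix.SpecialLinearGroup.coe_mul]
  rw [(isScalar2_iff _).1 hg, smul_one_mul, mul_smul_comm, mul_one]

theorem trace_eq_of_isConj_sl {g h : Matrix.SpecialLinearGroup (Fin 2) F} (hc : IsConj g h) :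
    (g : Matrix (Fin 2) (Fin 2) F).trace = (h : Matrix (Fin 2) (Fin 2) F).trace := by
  obtain ⟨c, hc⟩ := isConj_iff.1 hc
  rw [mul_inv_eq_iff_eq_mul] at hc
  exact trace_eq_of_conj (by rw [c.2]; exact one_ne_zero) (congrArg Subtype.val hc)

/-- In odd characteristic, non-degenerate norm forms are surjective. -/
theorem norm_surj_odd [Finite F] (hF : ringChar F ≠ 2) {g : Matrix.SpecialLinearGroup (Fin 2) F}
    (ht : (g : Matrix (Fin 2) (Fin 2) F).trace ^ 2 ≠ 4) (r : F) :
    IsNorm (g : Matrix (Fin 2) (Fin 2) F) r := by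
  classical
  have : Fintype F := Fintype.ofFinite F
  have h2 : (2 : F) ≠ 0 := Ring.two_ne_zero hF
  set t := (g : Matrix (Fin 2) (Fin 2) F).trace
  have hc : (1 - t ^ 2 / 4) ≠ 0 := by
    intro h
    apply ht
    have h4 : (4 : F) ≠ 0 := by
      have : (4 : F) = 2 * 2 := by norm_num
      rw [this]; exact mul_ne_zero h2 h2
    field_simp at h
    linear_combination -h
  obtain ⟨x, y, hxy⟩ := FiniteField.exists_root_sum_quadratic
    (f := (Polynomial.X ^ 2 : Polynomial F))
    (g := Polynomial.C (1 - t ^ 2 / 4) * Polynomial.X ^ 2 - Polynomial.C r)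
    (by simp) (by
      rw [sub_eq_add_neg, Polynomial.degree_add_eq_left_of_degree_lt] <;>
        rw [Polynomial.degree_C_mul hc, Polynomial.degree_X_pow]
      · norm_num
      · rw [Polynomial.degree_neg]
        exact lt_of_le_of_lt Polynomial.degree_C_le (by norm_num))
    (Nat.odd_iff.1 (by rw [Nat.odd_iff]; exact FiniteField.odd_card_of_char_ne_two hF))
  simp at hxy
  refine ⟨x - y * t / 2, y, ?_⟩
  rw [g.2, mul_one]
  have e : (4 : F) = 2 * 2 := by norm_num
  rw [e] at hxy
  field_simp at hxy ⊢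
  linear_combination hxy

/-- In characteristic two every norm form is surjective. -/
theorem norm_surj_even [Finite F] [CharP F 2] {g : Matrix (Fin 2) (Fin 2) F} (r : F) : IsNorm g r := by
  obtain ⟨a, ha⟩ := FiniteField.isSquare_of_char_two (ringChar.eq F 2) r
  exact ⟨a, 0, by rw [ha]; ring⟩

/-- With trace `± 2` the centraliser determinants are squares. -/
theorem norm_trace_two {g : Matrix.SpecialLinearGroup (Fin 2) F} {s : F} (hs : s * s = 1)
    (ht : (g : Matrix (Fin 2) (Fin 2) F).trace = 2 * s) (r : F) :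
    IsNorm (g : Matrix (Fin 2) (Fin 2) F) r ↔ IsSquare r := by
  constructor
  · rintro ⟨a, b, rfl⟩
    exact ⟨a + b * s, by rw [ht, g.2]; linear_combination (-(b ^ 2)) * hs⟩
  · rintro ⟨c, rfl⟩
    exact ⟨c, 0, by ring⟩

/-- A non-scalar element of trace `2 s` is conjugate to a Jordan element. -/
theorem exists_jordan [Finite F] {g : Matrix.SpecialLinearGroup (Fin 2) F}
    (hg : ¬ IsScalar2 (g : Matrix (Fin 2) (Fin 2) F)) {s : F} (hs : s * s = 1)
    (ht : (g : Matrix (Fin 2) (Fin 2) F).trace = 2 * s) :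
    ∃ b : F, b ≠ 0 ∧ IsConj g (jordanSL s b hs) := by
  obtain ⟨X, hX, he⟩ := similar_of_trace_det hg (jordanSL_not_scalar s 1 hs one_ne_zero)
    (ht.trans (trace_jordanSL s 1 hs).symm) (g.2.trans (jordanSL s 1 hs).2.symm)
  have hXi : X.det⁻¹ ≠ 0 := inv_ne_zero hX
  refine ⟨X.det⁻¹, hXi, ?_⟩
  have he' : (!![X.det⁻¹, 0; 0, 1] * X) * (g : Matrix (Fin 2) (Fin 2) F) =
      (jordanSL s X.det⁻¹ hs : Matrix (Fin 2) (Fin 2) F) * (!![X.det⁻¹, 0; 0, 1] * X) := by
    rw [mul_assoc, he, ← mul_assoc, ← mul_assoc]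
    congr 1
    simp only [jordanSL, coe_mkSL]
    ext i j
    fin_cases i <;> fin_cases j <;> simp [Matrix.mul_apply, Fin.sum_univ_two] <;> ring
  refine (sl_isConj_iff_norm hg ?_ he').2 ?_
  · rw [Matrix.det_mul, Matrix.det_fin_two_of]; simp [hX]
  · rw [norm_trace_two hs ht, Matrix.det_mul, Matrix.det_fin_two_of]
    simp [hX]

/-- Unipotent elements: order `p` means non-scalar with trace `2` and determinant `1`. -/
theorem orderOf_eq_char (p : ℕ) [Fact p.Prime] [CharP F p] {G : Type*} [Group G]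
    (φ : G →* Matrix (Fin 2) (Fin 2) F) (hφ : Function.Injective φ) (g : G) :
    orderOf g = p ↔ ¬ IsScalar2 (φ g) ∧ (φ g).trace = 2 ∧ (φ g).det = 1 := by
  have hp := (Fact.out : p.Prime)
  rw [← orderOf_injective φ hφ]
  generalize φ g = M
  have : CharP (Matrix (Fin 2) (Fin 2) F) p := inferInstance
  have hN : M ^ p = 1 ↔ (M - 1) ^ p = 0 := by
    rw [sub_pow_char_of_commute p (Commute.one_right M), one_pow, sub_eq_zero]
  constructor
  · intro ho
    have h1 : M ≠ 1 := fun h => by rw [h, orderOf_one] at ho; exact hp.one_lt.ne ho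
    have hnil : (M - 1) ^ p = 0 := hN.1 (ho ▸ pow_orderOf_eq_one M)
    set N := M - 1 with hNdef
    have hdetN : N.det = 0 := by
      have := congrArg Matrix.det hnil
      rw [Matrix.det_pow, Matrix.det_zero] at this
      exact pow_eq_zero_iff hp.ne_zero |>.1 this
    have hN2 : N * N = N.trace • N := by rw [sq_eq N, hdetN, zero_smul, sub_zero]
    have hpow : ∀ k : ℕ, N ^ (k + 1) = N.trace ^ k • N := by
      intro k
      induction k with
      | zero => simp
      | succ k ih => rw [pow_succ, ih, smul_mul_assoc, hN2, smul_smul, ← pow_succ]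
    have htr : N.trace = 0 := by
      obtain ⟨k, hk⟩ := Nat.exists_eq_add_one_of_ne_zero hp.ne_zero
      have hk0 : k ≠ 0 := fun h => by have := hp.two_le; omega
      rw [hk, hpow] at hnil
      rcases smul_eq_zero.1 hnil with h | h
      · exact (pow_eq_zero_iff hk0).1 h
      · exact absurd (sub_eq_zero.1 (hNdef ▸ h : M - 1 = 0)) h1
    have hM : M = N + 1 := by rw [hNdef, sub_add_cancel]
    refine ⟨fun hsc => h1 ?_, ?_, ?_⟩
    · have h00 : N 0 0 = N 1 1 := by simp [hNdef, hsc.2.2]
      rw [Matrix.det_fin_two] at hdetN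
      have h01 : N 0 1 = 0 := by simp [hNdef, hsc.1]
      have : N 0 0 = 0 := by
        have : N 0 0 * N 0 0 = 0 := by
          linear_combination hdetN + N 1 0 * h01 + N 0 0 * h00
        exact mul_self_eq_zero.1 this
      rw [(isScalar2_iff M).1 hsc, show M 0 0 = 1 by
        have h' : N 0 0 = M 0 0 - 1 := by simp [hNdef]
        linear_combination this - h', one_smul]
    · rw [hM, Matrix.trace_add, htr, Matrix.trace_one]; simp
    · rw [hM]
      rw [Matrix.det_fin_two] at hdetN
      rw [Matrix.trace_fin_two] at htr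
      rw [Matrix.det_fin_two]
      simp
      linear_combination hdetN + htr
  · rintro ⟨hns, ht, hd⟩
    apply orderOf_eq_prime
    · rw [hN]
      have h0 : (M - 1) ^ 2 = 0 := by
        rw [sq, sub_mul, mul_sub, sq_eq M, ht, hd]
        simp only [mul_one, one_mul, one_smul, two_smul]
        abel
      obtain ⟨k, hk⟩ := Nat.exists_eq_add_of_le hp.two_le
      rw [hk, pow_add, h0, zero_mul]
    · rintro rfl
      exact hns ⟨by simp, by simp, by simp⟩

/-- The matrix homomorphism of `SL₂`. -/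
def slMat : Matrix.SpecialLinearGroup (Fin 2) F →* Matrix (Fin 2) (Fin 2) F where
  toFun g := g
  map_one' := rfl
  map_mul' _ _ := rfl

theorem slMat_injective : Function.Injective (slMat (F := F)) := fun _ _ h => Subtype.ext h

end CfsgLib.GLTwo
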