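import Mathlib
import Cfsg.Prelude.Def_ParabolicCharacters
import Cfsg.Agent.Lib.GLTwo.Basic

/-!
Cosets of the upper triangular subgroup of `GL₂` as points of the projective line.
-/

set_option autoImplicit false

namespace CfsgLib.GLTwo

open Matrix

variable {F : Type*} [Field F]

theorem mem_upperTriangular_two (x : GL (Fin 2) F) :
    x ∈ Cfsg.upperTriangularGL 2 F ↔ (x : Matrix (Fin 2) (Fin 2) F) 1 0 = 0 := by
  change (x : Matrix (Fin 2) (Fin 2) F).BlockTriangular id ↔ _
  constructor
  · intro h; exact h (show id (0 : Fin 2) < id 1 by decide)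
  · intro h i j hij
    fin_cases i <;> fin_cases j <;> simp at hij ⊢
    exact h

/-- The point of the projective line with homogeneous coordinates `(1 : c)` or `(0 : 1)`. -/
def linePoint : Option F → Fin 2 → F
  | some c => ![1, c]
  | none => ![0, 1]

/-- A representative of the coset of a point. -/
def lineRep : Option F → GL (Fin 2) F
  | some c => Matrix.GeneralLinearGroup.mkOfDetNeZero !![1, 0; c, 1] (by simp [Matrix.det_fin_two])
  | none => Matrix.GeneralLinearGroup.mkOfDetNeZero !![0, 1; 1, 0] (by simp [Matrix.det_fin_two])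

theorem lineRep_col (o : Option F) (i : Fin 2) :
    (lineRep o : Matrix (Fin 2) (Fin 2) F) i 0 = linePoint o i := by
  cases o <;> fin_cases i <;> simp [lineRep, linePoint, Matrix.GeneralLinearGroup.mkOfDetNeZero]

/-- The coset of a point of the projective line. -/
def lineCoset (o : Option F) : GL (Fin 2) F ⧸ Cfsg.upperTriangularGL 2 F := QuotientGroup.mk (lineRep o)

theorem coset_eq_iff (x y : GL (Fin 2) F) :
    (QuotientGroup.mk x : GL (Fin 2) F ⧸ Cfsg.upperTriangularGL 2 F) = QuotientGroup.mk y ↔
      (x : Matrix (Fin 2) (Fin 2) F) 0 0 * (y : Matrix (Fin 2) (Fin 2) F) 1 0 =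
        (x : Matrix (Fin 2) (Fin 2) F) 1 0 * (y : Matrix (Fin 2) (Fin 2) F) 0 0 := by
  rw [QuotientGroup.eq, mem_upperTriangular_two, Units.val_mul, Matrix.coe_units_inv,
    Matrix.inv_def, Matrix.adjugate_fin_two]
  have hd : (x : Matrix (Fin 2) (Fin 2) F).det ≠ 0 := Matrix.GeneralLinearGroup.det_ne_zero x
  simp only [Matrix.smul_mul, Matrix.smul_apply, smul_eq_mul, Ring.inverse_eq_inv', mul_eq_zero,
    inv_eq_zero, hd, false_or]
  simp [Matrix.mul_apply, Fin.sum_univ_two]
  constructor <;> intro h <;> linear_combination h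

theorem lineCoset_bijective : Function.Bijective (lineCoset (F := F)) := by
  constructor
  · intro o o' h
    rw [lineCoset, lineCoset, coset_eq_iff] at h
    simp only [lineRep_col] at h
    cases o <;> cases o' <;> simp [linePoint] at h ⊢
    exact h.symm
  · intro q
    obtain ⟨x, rfl⟩ := QuotientGroup.mk_surjective q
    by_cases h0 : (x : Matrix (Fin 2) (Fin 2) F) 0 0 = 0
    · exact ⟨none, (coset_eq_iff _ _).2 (by simp [lineRep_col, linePoint, h0])⟩
    · refine ⟨some ((x : Matrix (Fin 2) (Fin 2) F) 1 0 / (x : Matrix (Fin 2) (Fin 2) F) 0 0),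
        (coset_eq_iff _ _).2 ?_⟩
      simp [lineRep_col, linePoint]
      field_simp

/-- The permutation character on the cosets of the Borel subgroup counts eigenlines. -/
theorem fixedPointCharacter_eq (g : GL (Fin 2) F) :
    Cfsg.fixedPointCharacter (Cfsg.upperTriangularGL 2 F) g =
      (Nat.card {o : Option F // ((g : Matrix (Fin 2) (Fin 2) F) *ᵥ linePoint o) 0 * linePoint o 1 =
        ((g : Matrix (Fin 2) (Fin 2) F) *ᵥ linePoint o) 1 * linePoint o 0} : ℂ) := by
  rw [Cfsg.fixedPointCharacter]
  congr 1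
  refine (Nat.card_congr ((Equiv.ofBijective _ lineCoset_bijective).subtypeEquiv fun o => ?_)).symm
  rw [MulAction.mem_fixedBy, Equiv.ofBijective_apply, lineCoset,
    show g • (QuotientGroup.mk (lineRep o) : GL (Fin 2) F ⧸ Cfsg.upperTriangularGL 2 F) =
      QuotientGroup.mk (g * lineRep o) from rfl, coset_eq_iff]
  simp only [Units.val_mul, Matrix.mul_apply, lineRep_col, Matrix.mulVec, dotProduct]

end CfsgLib.GLTwo
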